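import Groth.Agent.L24.Boot.Coords
import Groth.Agent.L05.Hensel.Homs
import Groth.Agent.L05.Hensel.Smooth
import Mathlib.RingTheory.Etale.Kaehler
import Mathlib.LinearAlgebra.Determinant
import Mathlib.Algebra.Ring.Action.Basic

/-!
# Equivariant sections of smooth algebras over henselian local rings

A finite group of order invertible in the residue field acts semilinearly on a smooth algebra with
coordinates `t`.  Averaging the displacements of an orbit of sections with the inverse Jacobians of the
action gives equations whose unique solution through a fixed residual point is an equivariant section.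
-/

set_option autoImplicit false
set_option linter.style.haveILetI false

universe u

open KaehlerDifferential IsLocalRing
open scoped Matrix

namespace Groth.L28.EquivSection

/-- Coordinates with a basis of differentials persist under localisation. -/
theorem exists_basis_away {A B B' : Type u} [CommRing A] [CommRing B] [CommRing B'] [Algebra A B] [Algebra A B']
    [Algebra B B'] [IsScalarTower A B B'] (e : B) [IsLocalization.Away e B'] {κ : Type u} (t : κ → B)
    (b : Module.Basis κ B Ω[B⁄A]) (hb : ∀ i, b i = D A B (t i)) :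
    ∃ b' : Module.Basis κ B' Ω[B'⁄A], ∀ i, b' i = D A B' (algebraMap B B' (t i)) :=
  ⟨b.ofIsLocalizedModule B' (Submonoid.powers e) (map A A B B'), fun i => by
    rw [Module.Basis.ofIsLocalizedModule_apply, hb, map_D]⟩

variable {A B : Type u} [CommRing A] [CommRing B] [Algebra A B]
variable {G : Type u} [Group G] [MulSemiringAction G A]
variable {κ : Type u} [Fintype κ] [DecidableEq κ]

/-- The Jacobian of a semilinear map in the coordinates `t`. -/
noncomputable def jac (bΩ : Module.Basis κ B Ω[B⁄A]) (t : κ → B) (τ : G → B →+* B) (g : G) : Matrix κ κ B :=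
  fun i j => bΩ.repr (D A B (τ g (t i))) j

variable (bΩ : Module.Basis κ B Ω[B⁄A]) (t : κ → B) (hb : ∀ i, bΩ i = D A B (t i))
  (τ : G → B →+* B) (hτ1 : τ 1 = RingHom.id B) (hτm : ∀ g h, τ (g * h) = (τ g).comp (τ h))
  (hτA : ∀ (g : G) (a : A), τ g (algebraMap A B a) = algebraMap A B (g • a))

include hb hτ1 hτm hτA in
/-- The chain rule for a semilinear map. -/
theorem repr_map (k : G) (b : B) (i : κ) :
    bΩ.repr (D A B (τ k b)) i = ∑ j, τ k (bΩ.repr (D A B b) j) * jac bΩ t τ k j i := by
  have h1 : ∀ x, τ k⁻¹ (τ k x) = x := fun x => by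
    rw [← RingHom.comp_apply, ← hτm, inv_mul_cancel, hτ1, RingHom.id_apply]
  have h2 : ∀ x, τ k (τ k⁻¹ x) = x := fun x => by
    rw [← RingHom.comp_apply, ← hτm, mul_inv_cancel, hτ1, RingHom.id_apply]
  -- the difference as a derivation
  let δ : B → B := fun x => bΩ.repr (D A B (τ k x)) i - ∑ j, τ k (bΩ.repr (D A B x) j) * jac bΩ t τ k j i
  have hadd : ∀ x y, δ (x + y) = δ x + δ y := fun x y => by
    simp only [δ, map_add, Finsupp.add_apply, add_mul, Finset.sum_add_distrib]
    ring
  have hmul : ∀ x y, δ (x * y) = τ k x * δ y + τ k y * δ x := fun x y => by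
    simp only [δ, map_mul, Derivation.leibniz, map_add, map_smul, Finsupp.add_apply, Finsupp.smul_apply,
      smul_eq_mul, add_mul, Finset.sum_add_distrib, mul_assoc, ← Finset.mul_sum]
    ring
  have hA0 : ∀ a, δ (algebraMap A B a) = 0 := fun a => by
    simp [δ, hτA]
  let δ' : Derivation A B B := Derivation.mk'
    { toFun := fun x => τ k⁻¹ (δ x)
      map_add' := fun x y => by rw [hadd, map_add]
      map_smul' := fun a x => by
        rw [RingHom.id_apply, Algebra.smul_def, hmul, hA0, mul_zero, add_zero, map_mul, h1, Algebra.smul_def] }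
    (fun x y => by
      show τ k⁻¹ (δ (x * y)) = x • τ k⁻¹ (δ y) + y • τ k⁻¹ (δ x)
      rw [hmul, map_add, map_mul, map_mul, h1, h1, smul_eq_mul, smul_eq_mul])
  have h0 : δ'.liftKaehlerDifferential = 0 := bΩ.ext fun j => by
    rw [hb, Derivation.liftKaehlerDifferential_comp_D, LinearMap.zero_apply]
    show τ k⁻¹ (δ (t j)) = 0
    have : δ (t j) = 0 := by
      simp only [δ]
      rw [← hb j, bΩ.repr_self, Finset.sum_eq_single j (fun l _ hl => by
        rw [Finsupp.single_eq_of_ne hl, map_zero, zero_mul]) (by simp), Finsupp.single_eq_same, map_one, one_mul,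
        jac, sub_self]
    rw [this, map_zero]
  have h3 : τ k⁻¹ (δ b) = 0 := by
    rw [show τ k⁻¹ (δ b) = δ' b from rfl, ← Derivation.liftKaehlerDifferential_comp_D δ' b, h0,
      LinearMap.zero_apply]
  have h4 := congrArg (τ k) h3
  rw [h2, map_zero] at h4
  exact sub_eq_zero.1 h4

include hb hτ1 hτm hτA in
theorem jac_mul (g h : G) : jac bΩ t τ (g * h) = (jac bΩ t τ h).map (τ g) * jac bΩ t τ g := by
  ext i l
  show bΩ.repr (D A B (τ (g * h) (t i))) l = _
  rw [hτm, RingHom.comp_apply, repr_map bΩ t hb τ hτ1 hτm hτA]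
  rfl

include hb hτ1 hτm hτA in
/-- An equivariant section of a smooth algebra with coordinates through a fixed residual point. -/
theorem exists_equivariant_section [HenselianLocalRing A] [Algebra.Smooth A B] [Finite G]
    (hG : IsUnit ((Nat.card G : ℕ) : ResidueField A))
    (htriv : ∀ (g : G) (a : A), residue A (g • a) = residue A a)
    (ε : B →ₐ[A] ResidueField A) (hε : ∀ g b, ε (τ g b) = ε b) :
    ∃ s : B →ₐ[A] A, (∀ b, residue A (s b) = ε b) ∧ ∀ (g : G) (b : B), g • s b = s (τ g b) := by
  classical
  haveI : Fintype G := Fintype.ofFinite G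
  haveI : HenselianRing A (maximalIdeal A) := inferInstance
  obtain ⟨s0, hs0⟩ := Groth.L05.exists_algHom_lift_smooth (maximalIdeal A) (S := B) ε
  have hs0' : ∀ b, residue A (s0 b) = ε b := fun b => DFunLike.congr_fun hs0 b
  have hτc : ∀ g h x, τ g (τ h x) = τ (g * h) x := fun g h x => by rw [hτm, RingHom.comp_apply]
  -- Jacobians and their inverses
  let M := jac bΩ t τ
  let N : G → Matrix κ κ B := fun g => (M g⁻¹).map (τ g)
  have hM1 : M 1 = 1 := by
    ext i j
    show bΩ.repr (D A B (τ 1 (t i))) j = _
    rw [hτ1, RingHom.id_apply, ← hb i, bΩ.repr_self, Matrix.one_apply, Finsupp.single_apply]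
  have hNM : ∀ g, N g * M g = 1 := fun g => by
    rw [← hM1, ← mul_inv_cancel g]
    exact (jac_mul bΩ t hb τ hτ1 hτm hτA g g⁻¹).symm
  have hτN : ∀ k g, (N g).map (τ k) = M k * N (k * g) := fun k g => by
    have h : M g⁻¹ = (M k).map (τ (k * g)⁻¹) * M (k * g)⁻¹ := by
      have h := jac_mul bΩ t hb τ hτ1 hτm hτA (k * g)⁻¹ k
      rwa [mul_inv_rev, inv_mul_cancel_right, ← mul_inv_rev] at h
    have h3 : (N g).map (τ k) = (M g⁻¹).map (τ (k * g)) := by
      simp only [N, Matrix.map_map]
      exact congrArg _ (funext fun x => hτc k g x)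
    rw [h3, h, Matrix.map_mul, Matrix.map_map]
    congr 1
    ext a c
    show τ (k * g) (τ (k * g)⁻¹ (M k a c)) = M k a c
    rw [hτc, mul_inv_cancel, hτ1, RingHom.id_apply]
  -- the averaged displacement
  let c : G → G → κ → A := fun h g j => h • s0 (τ (h⁻¹ * g) (t j))
  let v : G → G → κ → B := fun h g j => τ g (t j) - algebraMap A B (c h g j)
  have hτv : ∀ k h g, τ k ∘ v h g = v (k * h) (k * g) := fun k h g => funext fun j => by
    show τ k (τ g (t j) - _) = τ (k * g) (t j) - _
    rw [map_sub, hτc, hτA]
    simp only [c]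
    rw [smul_smul, mul_inv_rev, mul_assoc h⁻¹, inv_mul_cancel_left]
  let E : κ → B := ∑ h, ∑ g, N g *ᵥ v h g
  have hE : ∀ i, E i = ∑ h, ∑ g, ∑ j, N g i j * v h g j := fun i => by
    simp [E, Finset.sum_apply, Matrix.mulVec, dotProduct]
  have hτE : ∀ k i, τ k (E i) = ∑ l, M k i l * E l := fun k i => by
    have h1 : τ k (E i) = ∑ h, ∑ g, ((N g).map (τ k) *ᵥ (τ k ∘ v h g)) i := by
      simp only [E, Finset.sum_apply, map_sum, RingHom.map_mulVec]
    rw [h1]
    simp only [hτN, hτv, ← Matrix.mulVec_mulVec]
    have h2 : ∀ h, ∑ g, (M k *ᵥ N (k * g) *ᵥ v (k * h) (k * g)) i = ∑ g, (M k *ᵥ N g *ᵥ v (k * h) g) i :=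
      fun h => Fintype.sum_equiv (Equiv.mulLeft k) _ _ fun g => rfl
    simp only [h2]
    rw [Fintype.sum_equiv (Equiv.mulLeft k) (fun h => ∑ g, (M k *ᵥ N g *ᵥ v (k * h) g) i)
      (fun h => ∑ g, (M k *ᵥ N g *ᵥ v h g) i) fun h => rfl]
    simp only [← Finset.sum_apply, ← Matrix.mulVec_sum]
    rfl
  -- the Jacobian of the equations
  have hεv : ∀ h g j, ε (v h g j) = 0 := fun h g j => by
    simp only [v, c, map_sub, hε, AlgHom.commutes]
    show _ - residue A _ = 0
    rw [htriv, hs0', hε, sub_self]
  let J : Matrix κ κ B := fun i l => bΩ.repr (D A B (E i)) l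
  have hJ : J.map ε = ((Nat.card G : ResidueField A) * (Nat.card G : ResidueField A)) • (1 : Matrix κ κ (ResidueField A)) := by
    have h1 : ∀ g i l, ∑ j, ε (N g i j) * ε (M g j l) = (1 : Matrix κ κ (ResidueField A)) i l := fun g i l => by
      have := congrFun (congrFun (congrArg (fun X : Matrix κ κ B => X.map ε) (hNM g)) i) l
      simp only [Matrix.map_apply, Matrix.mul_apply, map_sum, map_mul] at this
      rw [this, Matrix.one_apply, Matrix.one_apply, apply_ite ε, map_one, map_zero]
    have h0 : ∀ h g j l, bΩ.repr (D A B (v h g j)) l = M g j l := fun h g j l => by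
      simp only [v, map_sub, Derivation.map_algebraMap, sub_zero]
      rfl
    ext i l
    rw [Matrix.smul_apply, Matrix.map_apply]
    show ε (bΩ.repr (D A B (E i)) l) = _
    simp only [hE, map_sum, Derivation.leibniz, map_add, map_smul, Finsupp.coe_finsetSum, Finset.sum_apply,
      Finsupp.add_apply, Finsupp.smul_apply, smul_eq_mul, map_mul, hεv, zero_mul, add_zero, h0, h1,
      Finset.sum_const, Finset.card_univ, nsmul_eq_mul, Nat.card_eq_fintype_card, mul_assoc]
  have hJdet : ε J.det ≠ 0 := by
    rw [show ε J.det = (J.map ε).det from AlgHom.map_det ε J, hJ, Matrix.det_smul, Matrix.det_one, mul_one]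
    exact pow_ne_zero _ (mul_ne_zero hG.ne_zero hG.ne_zero)
  -- the étale neighbourhood
  let B' := Localization.Away J.det
  haveI : Algebra.Smooth A B' := Algebra.Smooth.comp A B B'
  obtain ⟨b', hb'⟩ := exists_basis_away (A := A) (B' := B') J.det t bΩ hb
  let E' : κ → B' := fun i => algebraMap B B' (E i)
  have hE' : b'.toMatrix (fun i => D A B' (E' i)) = (J.map (algebraMap B B')).transpose := by
    ext l i
    show b'.repr (D A B' (algebraMap B B' (E i))) l = algebraMap B B' (bΩ.repr (D A B (E i)) l)
    have : D A B' (algebraMap B B' (E i)) = ∑ j, algebraMap B B' (bΩ.repr (D A B (E i)) j) • b' j := by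
      rw [← map_D A A B B', ← bΩ.sum_repr (D A B (E i)), map_sum]
      refine Finset.sum_congr rfl fun j _ => ?_
      rw [map_smul, hb, map_D, hb', bΩ.sum_repr, algebraMap_smul]
    rw [this, b'.repr_sum_self]
  have hdet : IsUnit (b'.det fun i => D A B' (E' i)) := by
    rw [Module.Basis.det_apply, hE', Matrix.det_transpose,
      show (J.map (algebraMap B B')).det = algebraMap B B' J.det from ((algebraMap B B').map_det J).symm]
    exact IsLocalization.Away.algebraMap_isUnit J.det
  obtain ⟨hli, hsp⟩ := b'.is_basis_iff_det.2 hdet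
  have het := Groth.L24.Boot.etale_of_basis_differentials (A := A) E' (Module.Basis.mk hli hsp.ge)
    fun i => Module.Basis.mk_apply _ _ i
  let P := MvPolynomial κ A
  letI : Algebra P B' := (MvPolynomial.aeval E' : P →ₐ[A] B').toRingHom.toAlgebra
  haveI : Algebra.Etale P B' := het
  letI : Algebra P A := (MvPolynomial.aeval (fun _ => (0 : A)) : P →ₐ[A] A).toRingHom.toAlgebra
  -- the residual point of the neighbourhood
  let εL : B' →+* ResidueField A := IsLocalization.Away.lift J.det (g := ε.toRingHom) (Ne.isUnit hJdet)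
  have hεL : ∀ b, εL (algebraMap B B' b) = ε b := fun b => IsLocalization.Away.lift_eq _ _ b
  have hεE : ∀ i, ε (E i) = 0 := fun i => by simp [hE, hεv]
  let σ : B' →ₐ[P] A ⧸ maximalIdeal A :=
    { toRingHom := εL
      commutes' := by
        refine RingHom.congr_fun (MvPolynomial.ringHom_ext (f := εL.comp (algebraMap P B'))
          (g := (Ideal.Quotient.mk (maximalIdeal A)).comp (algebraMap P A)) (fun a => ?_) fun i => ?_)
        · show εL (MvPolynomial.aeval E' (MvPolynomial.C a)) = residue A (MvPolynomial.aeval _ (MvPolynomial.C a))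
          rw [MvPolynomial.aeval_C, MvPolynomial.aeval_C, IsScalarTower.algebraMap_apply A B B', hεL,
            AlgHom.commutes]
          rfl
        · show εL (MvPolynomial.aeval E' (MvPolynomial.X i)) = residue A (MvPolynomial.aeval _ (MvPolynomial.X i))
          rw [MvPolynomial.aeval_X, MvPolynomial.aeval_X, hεL, hεE, map_zero] }
  obtain ⟨r, hr, huniq⟩ := Groth.L05.existsUnique_algHom_lift_etale (maximalIdeal A) σ
  have hrE : ∀ i, r (E' i) = 0 := fun i => by
    have h := r.commutes (MvPolynomial.X i)
    rwa [show algebraMap P B' (MvPolynomial.X i) = E' i from MvPolynomial.aeval_X _ _,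
      show algebraMap P A (MvPolynomial.X i) = 0 from MvPolynomial.aeval_X _ _] at h
  have hrA : ∀ a, r (algebraMap A B' a) = a := fun a => by
    have h := r.commutes (MvPolynomial.C a)
    rwa [show algebraMap P B' (MvPolynomial.C a) = algebraMap A B' a from MvPolynomial.aeval_C _ _,
      show algebraMap P A (MvPolynomial.C a) = a from MvPolynomial.aeval_C _ _] at h
  let s : B →ₐ[A] A :=
    { r.toRingHom.comp (algebraMap B B') with
      commutes' := fun a => by
        show r (algebraMap B B' (algebraMap A B a)) = a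
        rw [← IsScalarTower.algebraMap_apply, hrA] }
  have hsres : ∀ b, residue A (s b) = ε b := fun b => (DFunLike.congr_fun hr _).trans (hεL b)
  have hsE : ∀ i, s (E i) = 0 := hrE
  -- uniqueness
  have hu : ∀ q : B →ₐ[A] A, (∀ b, residue A (q b) = ε b) → (∀ i, q (E i) = 0) → q = s := by
    intro q hq hqE
    have hunit : IsUnit (q J.det) := by
      by_contra h
      exact hJdet (by rw [← hq]; exact (residue_eq_zero_iff _).2 h)
    let qL : B' →+* A := IsLocalization.Away.lift J.det (g := q.toRingHom) hunit
    have hqL : ∀ b, qL (algebraMap B B' b) = q b := fun b => IsLocalization.Away.lift_eq _ _ b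
    let qP : B' →ₐ[P] A :=
      { toRingHom := qL
        commutes' := by
          refine RingHom.congr_fun (MvPolynomial.ringHom_ext (f := qL.comp (algebraMap P B'))
            (g := algebraMap P A) (fun a => ?_) fun i => ?_)
          · show qL (MvPolynomial.aeval E' (MvPolynomial.C a)) = MvPolynomial.aeval _ (MvPolynomial.C a)
            rw [MvPolynomial.aeval_C, MvPolynomial.aeval_C, IsScalarTower.algebraMap_apply A B B', hqL,
              AlgHom.commutes]
          · show qL (MvPolynomial.aeval E' (MvPolynomial.X i)) = MvPolynomial.aeval _ (MvPolynomial.X i)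
            rw [MvPolynomial.aeval_X, MvPolynomial.aeval_X, hqL, hqE] }
    have : qP = r := huniq qP (AlgHom.coe_ringHom_injective (IsLocalization.ringHom_ext (Submonoid.powers J.det)
      (RingHom.ext fun b => by
        show residue A (qL (algebraMap B B' b)) = εL (algebraMap B B' b)
        rw [hqL, hεL, hq])))
    exact AlgHom.ext fun b => (hqL b).symm.trans (DFunLike.congr_fun this _)
  refine ⟨s, hsres, fun k b => ?_⟩
  let q : B →ₐ[A] A :=
    { toRingHom := (MulSemiringAction.toRingHom G A k).comp (s.toRingHom.comp (τ k⁻¹))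
      commutes' := fun a => by
        show k • s (τ k⁻¹ (algebraMap A B a)) = a
        rw [hτA, AlgHom.commutes]
        exact smul_inv_smul k a }
  have hq : q = s := hu q (fun b => by
    show residue A (k • s (τ k⁻¹ b)) = _
    rw [htriv, hsres, hε]) fun i => by
    show k • s (τ k⁻¹ (E i)) = 0
    rw [hτE, map_sum]
    simp [hsE]
  conv_rhs => rw [← hq]
  show k • s b = k • s (τ k⁻¹ (τ k b))
  rw [hτc, inv_mul_cancel, hτ1, RingHom.id_apply]

end Groth.L28.EquivSection
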